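import Mathlib

/-!
# The number of partitions (helper38, S4536 N3; the step lemma is helper615's)
-/

set_option autoImplicit false

namespace Cfsg.Agent.H38.S4536

open Finset

theorem exists_part {w : ℕ} (π : Nat.Partition (w + 1)) : ∃ k, k ∈ π.parts := by
  by_contra h
  push Not at h
  have h1 : π.parts = 0 := Multiset.eq_zero_of_forall_notMem h
  have h2 := π.parts_sum
  rw [h1] at h2
  simp at h2

theorem card_partition_fib (n : ℕ) : Fintype.card (Nat.Partition (n + 2)) ≤
    Fintype.card (Nat.Partition (n + 1)) + Fintype.card (Nat.Partition n) := by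
  classical
  rw [← Fintype.card_sum]
  have hA : ∀ π : Nat.Partition (n + 2), 1 ∈ π.parts →
      ∃ ν : Nat.Partition (n + 1), π.parts = 1 ::ₘ ν.parts := by
    intro π h
    refine ⟨⟨π.parts.erase 1, fun {i} hi => π.parts_pos (Multiset.mem_of_mem_erase hi), ?_⟩, ?_⟩
    · have h1 := Multiset.cons_erase h
      have h2 := π.parts_sum
      rw [← h1, Multiset.sum_cons] at h2
      omega
    · exact (Multiset.cons_erase h).symm
  have hB : ∀ π : Nat.Partition (n + 2), 1 ∉ π.parts →
      ∃ ν : Nat.Partition n, π.parts = (ν.parts.count 1 + 2) ::ₘ ν.parts.filter (fun i => i ≠ 1) := by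
    intro π h
    obtain ⟨k, hk⟩ := exists_part π
    have hk0 := π.parts_pos hk
    have hk1 : k ≠ 1 := fun h' => h (h' ▸ hk)
    have h1 := Multiset.cons_erase hk
    have h2 := π.parts_sum
    rw [← h1, Multiset.sum_cons] at h2
    have hno : 1 ∉ π.parts.erase k := fun h' => h (Multiset.mem_of_mem_erase h')
    refine ⟨⟨π.parts.erase k + Multiset.replicate (k - 2) 1, ?_, ?_⟩, ?_⟩
    · intro i hi
      rcases Multiset.mem_add.mp hi with h' | h'
      · exact π.parts_pos (Multiset.mem_of_mem_erase h')
      · rw [Multiset.eq_of_mem_replicate h']; exact one_pos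
    · rw [Multiset.sum_add, Multiset.sum_replicate, smul_eq_mul, mul_one]
      omega
    · simp only
      rw [Multiset.count_add, Multiset.count_replicate_self, Multiset.count_eq_zero.mpr hno,
        Multiset.filter_add]
      have h3 : (π.parts.erase k).filter (fun i => i ≠ 1) = π.parts.erase k := by
        rw [Multiset.filter_eq_self]
        intro i hi h'
        exact hno (h' ▸ hi)
      have h4 : (Multiset.replicate (k - 2) 1).filter (fun i => i ≠ 1) = 0 := by
        rw [Multiset.filter_eq_nil]
        intro i hi h'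
        exact h' (Multiset.eq_of_mem_replicate hi)
      rw [h3, h4, add_zero]
      have h5 : 0 + (k - 2) + 2 = k := by omega
      rw [h5, h1]
  choose! fA hfA using hA
  choose! fB hfB using hB
  apply Fintype.card_le_of_injective
    (fun π => if 1 ∈ π.parts then Sum.inl (fA π) else Sum.inr (fB π))
  intro π π' h
  simp only at h
  by_cases h1 : 1 ∈ π.parts <;> by_cases h2 : 1 ∈ π'.parts
  · rw [if_pos h1, if_pos h2, Sum.inl.injEq] at h
    apply Nat.Partition.ext
    rw [hfA π h1, hfA π' h2, h]
  · rw [if_pos h1, if_neg h2] at h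
    exact absurd h (by simp)
  · rw [if_neg h1, if_pos h2] at h
    exact absurd h (by simp)
  · rw [if_neg h1, if_neg h2, Sum.inr.injEq] at h
    apply Nat.Partition.ext
    rw [hfB π h1, hfB π' h2, h]

theorem card_partition_le (n : ℕ) : Fintype.card (Nat.Partition (n + 1)) ≤ 2 ^ n := by
  have h := Fintype.card_le_of_surjective _ (Nat.Partition.ofComposition_surj (n := n + 1))
  rwa [composition_card] at h

theorem card_partition_pos (n : ℕ) : 0 < Fintype.card (Nat.Partition n) := Fintype.card_pos

theorem card_partition_le_fib (n : ℕ) : Fintype.card (Nat.Partition n) ≤ Nat.fib (n + 1) := by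
  induction n using Nat.strong_induction_on with
  | _ n ih =>
    match n with
    | 0 => simp
    | 1 => simp
    | n + 2 =>
      have h1 := ih (n + 1) (by omega)
      have h2 := ih n (by omega)
      have h3 := card_partition_fib n
      rw [Nat.fib_add_two (n := n + 1)]
      omega

/-! ### exact values -/

/-- partitions of `n` with parts at most `m` -/
def Bd (n m : ℕ) : Type := {p : Nat.Partition n // ∀ i ∈ p.parts, i ≤ m}

instance (n m : ℕ) : Finite (Bd n m) := Subtype.finite

/-- the recursion -/
def cnt : ℕ → ℕ → ℕ → ℕ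
  | 0, _, _ => 0
  | f + 1, n, m => if n = 0 then 1 else if m = 0 then 0 else if n < m then cnt f n (m - 1) else
      cnt f n (m - 1) + cnt f (n - m) m

theorem card_Bd_zero (m : ℕ) : Nat.card (Bd 0 m) = 1 := by
  rw [Nat.card_eq_one_iff_unique]
  refine ⟨⟨fun a b => Subtype.ext (Subsingleton.elim _ _)⟩, ⟨⟨default, ?_⟩⟩⟩
  intro i hi
  rw [Nat.Partition.partition_zero_parts] at hi
  simp at hi

theorem card_Bd_pos_zero {n : ℕ} (hn : n ≠ 0) : Nat.card (Bd n 0) = 0 := by
  rw [Nat.card_eq_zero]
  left
  refine ⟨fun p => ?_⟩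
  obtain ⟨n, rfl⟩ : ∃ k, n = k + 1 := ⟨n - 1, by omega⟩
  obtain ⟨k, hk⟩ := exists_part p.1
  have h1 := p.1.parts_pos hk
  have h2 := p.2 k hk
  omega

theorem card_Bd_lt {n m : ℕ} (h : n < m) : Nat.card (Bd n m) = Nat.card (Bd n (m - 1)) := by
  refine Nat.card_congr (Equiv.subtypeEquivRight fun p => ?_)
  constructor
  · intro _ i hi
    have := Nat.Partition.le_of_mem_parts hi
    omega
  · intro h1 i hi
    have := h1 i hi
    omega

theorem card_Bd_step {n m : ℕ} (hm : m ≠ 0) (h : m ≤ n) :
    Nat.card (Bd n m) = Nat.card (Bd n (m - 1)) + Nat.card (Bd (n - m) m) := by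
  classical
  have e1 : Bd n m ≃ {p : Bd n m // m ∉ p.1.parts} ⊕ {p : Bd n m // ¬ m ∉ p.1.parts} :=
    (Equiv.sumCompl _).symm
  rw [Nat.card_congr e1, Nat.card_sum]
  congr 1
  · refine Nat.card_congr
      { toFun := fun p => ⟨p.1.1, fun i hi => ?_⟩
        invFun := fun p => ⟨⟨p.1, fun i hi => ?_⟩, ?_⟩
        left_inv := fun p => rfl
        right_inv := fun p => rfl }
    · have h1 := p.1.2 i hi
      have h2 : i ≠ m := fun hh => p.2 (hh ▸ hi)
      omega
    · have := p.2 i hi
      omega
    · intro hh
      have := p.2 m hh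
      omega
  · refine Nat.card_congr
      { toFun := fun p => ⟨Nat.Partition.partitionWithPartEquiv (by omega) h ⟨p.1.1, not_not.1 p.2⟩, fun i hi => ?_⟩
        invFun := fun p => ⟨⟨((Nat.Partition.partitionWithPartEquiv (by omega) h).symm p.1).1, fun i hi => ?_⟩, ?_⟩
        left_inv := fun p => ?_
        right_inv := fun p => ?_ }
    · rw [Nat.Partition.partitionWithPartEquiv_apply_parts] at hi
      exact p.1.2 i (Multiset.mem_of_mem_erase hi)
    · rw [Nat.Partition.partitionWithPartEquiv_symm_apply_parts] at hi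
      rcases Multiset.mem_cons.1 hi with hi | hi
      · omega
      · exact p.2 i hi
    · exact not_not.2 ((Nat.Partition.partitionWithPartEquiv (by omega) h).symm p.1).2
    · apply Subtype.ext
      apply Subtype.ext
      simp
    · apply Subtype.ext
      simp

theorem card_Bd (f : ℕ) : ∀ n m : ℕ, n + m < f → Nat.card (Bd n m) = cnt f n m := by
  induction f with
  | zero => intro n m h; omega
  | succ f ih =>
    intro n m h
    unfold cnt
    split_ifs with h1 h2 h3
    · rw [h1, card_Bd_zero]
    · rw [h2, card_Bd_pos_zero h1]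
    · rw [card_Bd_lt h3, ih n (m - 1) (by omega)]
    · rw [card_Bd_step h2 (by omega), ih n (m - 1) (by omega), ih (n - m) m (by omega)]

theorem card_partition_eq (n : ℕ) : Fintype.card (Nat.Partition n) = cnt (2 * n + 1) n n := by
  rw [← card_Bd _ n n (by omega), ← Nat.card_eq_fintype_card]
  exact Nat.card_congr (Equiv.subtypeUnivEquiv fun p i hi => Nat.Partition.le_of_mem_parts hi).symm

theorem card_partition_small : Fintype.card (Nat.Partition 1) = 1 ∧ Fintype.card (Nat.Partition 2) = 2 ∧
    Fintype.card (Nat.Partition 3) = 3 ∧ Fintype.card (Nat.Partition 4) = 5 ∧ Fintype.card (Nat.Partition 5) = 7 ∧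
    Fintype.card (Nat.Partition 6) = 11 ∧ Fintype.card (Nat.Partition 7) = 15 ∧
    Fintype.card (Nat.Partition 8) = 22 := by
  refine ⟨?_, ?_, ?_, ?_, ?_, ?_, ?_, ?_⟩ <;> rw [card_partition_eq] <;> decide +kernel

end Cfsg.Agent.H38.S4536
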