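import Cfsg.Agent.H38.S4536.Part

/-!
# S4536, N3 (helper38)
-/

set_option autoImplicit false

namespace Cfsg.Agent.H38.S4536

open Finset

/-- the inner sum -/
def A (k w : ℕ) : ℕ := ∑ c ∈ range k, Fintype.card (Nat.Partition w) ^ Nat.gcd c k

theorem A_le {k : ℕ} (hk : 1 ≤ k) (w : ℕ) : A k w ≤ k * Fintype.card (Nat.Partition w) ^ k := by
  unfold A
  refine (Finset.sum_le_card_nsmul _ _ (Fintype.card (Nat.Partition w) ^ k) fun c _ => ?_).trans
    (le_of_eq (by rw [Finset.card_range, smul_eq_mul]))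
  exact Nat.pow_le_pow_right (card_partition_pos w) (Nat.gcd_le_right c hk)

theorem k_le {k : ℕ} (hk : 1 ≤ k) : k ≤ 2 ^ (k - 1) := by
  obtain ⟨k, rfl⟩ : ∃ j, k = j + 1 := ⟨k - 1, by omega⟩
  exact Nat.succ_le_of_lt (Nat.lt_two_pow_self (n := k))

theorem P_le {w : ℕ} (hw : 1 ≤ w) : Fintype.card (Nat.Partition w) ≤ 2 ^ (w - 1) := by
  obtain ⟨w, rfl⟩ : ∃ j, w = j + 1 := ⟨w - 1, by omega⟩
  exact card_partition_le w

theorem lemB {p M k w : ℕ} (hp : 2 ≤ p) (hM : 1 ≤ M) (hk : 1 ≤ k) (hw : 1 ≤ w)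
    (h : M * Fintype.card (Nat.Partition w) ≤ p ^ (w - 1)) : M * A k w ≤ p ^ (k * w - 1) := by
  have h1 : M * A k w ≤ k * (M * Fintype.card (Nat.Partition w)) ^ k := by
    calc M * A k w ≤ M * (k * Fintype.card (Nat.Partition w) ^ k) := Nat.mul_le_mul_left _ (A_le hk w)
      _ = k * (M * Fintype.card (Nat.Partition w) ^ k) := by ring
      _ ≤ k * (M ^ k * Fintype.card (Nat.Partition w) ^ k) := by
        refine Nat.mul_le_mul_left _ (Nat.mul_le_mul_right _ ?_)
        calc M = M ^ 1 := (pow_one M).symm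
          _ ≤ M ^ k := Nat.pow_le_pow_right hM hk
      _ = k * (M * Fintype.card (Nat.Partition w)) ^ k := by rw [mul_pow]
  refine h1.trans ?_
  have h2 : k ≤ p ^ (k - 1) := (k_le hk).trans (Nat.pow_le_pow_left hp _)
  have h3 : (M * Fintype.card (Nat.Partition w)) ^ k ≤ (p ^ (w - 1)) ^ k := Nat.pow_le_pow_left h k
  refine (Nat.mul_le_mul h2 h3).trans (le_of_eq ?_)
  rw [← pow_mul, ← pow_add]
  congr 1
  obtain ⟨w, rfl⟩ : ∃ j, w = j + 1 := ⟨w - 1, by omega⟩
  obtain ⟨k, rfl⟩ : ∃ j, k = j + 1 := ⟨k - 1, by omega⟩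
  simp only [Nat.add_sub_cancel]
  have : (k + 1) * (w + 1) = k + w * (k + 1) + 1 := by ring
  omega

theorem L1 {p k w : ℕ} (hp : 2 ≤ p) (hk : 1 ≤ k) (hw : 1 ≤ w) : A k w ≤ p ^ (k * w - 1) := by
  have h := lemB (M := 1) hp le_rfl hk hw (by
    rw [one_mul]
    exact (P_le hw).trans (Nat.pow_le_pow_left hp _))
  rwa [one_mul] at h

/-- `w P(w) ≤ 3^(w-1)` for `w ≥ 3` -/
theorem three (w : ℕ) : (w + 3) * Nat.fib (w + 4) ≤ 3 ^ (w + 2) := by
  induction w using Nat.strong_induction_on with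
  | _ w ih =>
    match w with
    | 0 => decide
    | 1 => decide
    | w + 2 =>
      have h1 := ih (w + 1) (by omega)
      have h2 := ih w (by omega)
      have h3 : Nat.fib (w + 2 + 4) = Nat.fib (w + 4) + Nat.fib (w + 5) := by
        rw [show w + 2 + 4 = (w + 4) + 2 by ring, Nat.fib_add_two]
      have h4 : Nat.fib (w + 1 + 4) = Nat.fib (w + 5) := by congr 1
      rw [h4] at h1
      rw [h3]
      have h5 : (3 : ℕ) ^ (w + 1 + 2) = 3 * 3 ^ (w + 2) := by rw [show w + 1 + 2 = (w + 2) + 1 by ring, pow_succ]; ring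
      have h6 : (3 : ℕ) ^ (w + 2 + 2) = 9 * 3 ^ (w + 2) := by rw [pow_add _ _ 2]; ring
      rw [h5] at h1
      rw [h6]
      nlinarith [Nat.zero_le (w * Nat.fib (w + 4)), Nat.zero_le (w * Nat.fib (w + 5)), Nat.zero_le (Nat.fib (w + 4)),
        Nat.zero_le (Nat.fib (w + 5))]

/-- `w P(w) ≤ 2^(w-1)` for `w ≥ 16` -/
theorem sixteen (w : ℕ) : (w + 16) * Nat.fib (w + 17) ≤ 2 ^ (w + 15) := by
  induction w using Nat.strong_induction_on with
  | _ w ih =>
    match w with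
    | 0 => decide
    | 1 => decide
    | w + 2 =>
      have h1 := ih (w + 1) (by omega)
      have h2 := ih w (by omega)
      have h3 : Nat.fib (w + 2 + 17) = Nat.fib (w + 17) + Nat.fib (w + 18) := by
        rw [show w + 2 + 17 = (w + 17) + 2 by ring, Nat.fib_add_two]
      have h4 : Nat.fib (w + 1 + 17) = Nat.fib (w + 18) := by congr 1
      rw [h4] at h1
      rw [h3]
      have h5 : (2 : ℕ) ^ (w + 1 + 15) = 2 * 2 ^ (w + 15) := by
        rw [show w + 1 + 15 = (w + 15) + 1 by ring, pow_succ]; ring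
      have h6 : (2 : ℕ) ^ (w + 2 + 15) = 4 * 2 ^ (w + 15) := by
        rw [show w + 2 + 15 = (w + 15) + 2 by ring, pow_add _ _ 2]; ring
      rw [h5] at h1
      rw [h6]
      nlinarith [Nat.zero_le (w * Nat.fib (w + 17)), Nat.zero_le (w * Nat.fib (w + 18)), Nat.zero_le (Nat.fib (w + 17)),
        Nat.zero_le (Nat.fib (w + 18))]

theorem three' {w : ℕ} (hw : 3 ≤ w) : w * Fintype.card (Nat.Partition w) ≤ 3 ^ (w - 1) := by
  obtain ⟨w, rfl⟩ : ∃ j, w = j + 3 := ⟨w - 3, by omega⟩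
  exact (Nat.mul_le_mul_left _ (card_partition_le_fib _)).trans (three w)

theorem sixteen' {w : ℕ} (hw : 16 ≤ w) : w * Fintype.card (Nat.Partition w) ≤ 2 ^ (w - 1) := by
  obtain ⟨w, rfl⟩ : ∃ j, w = j + 16 := ⟨w - 16, by omega⟩
  exact (Nat.mul_le_mul_left _ (card_partition_le_fib _)).trans (sixteen w)

/-- the local inequality for a 2-power `M` dividing `w` -/
theorem two_loc {w j : ℕ} (hw : 1 ≤ w) (hd : 2 ^ j ∣ w) (hne : w ≠ 2 ∧ w ≠ 4 ∧ w ≠ 8) :
    2 ^ j * Fintype.card (Nat.Partition w) ≤ 2 ^ (w - 1) := by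
  rcases Nat.lt_or_ge w 16 with h16 | h16
  · have hle : 2 ^ j ≤ w := Nat.le_of_dvd (by omega) hd
    have hj : j < 4 := by
      by_contra hj
      have : 2 ^ 4 ≤ 2 ^ j := Nat.pow_le_pow_right two_pos (by omega)
      omega
    rcases Nat.eq_zero_or_pos j with rfl | hj0
    · rw [pow_zero, one_mul]
      exact P_le hw
    · have h2 : 2 ∣ w := (dvd_pow_self 2 hj0.ne').trans hd
      have hF := card_partition_le_fib w
      have hcase : w = 6 ∨ w = 10 ∨ w = 12 ∨ w = 14 := by omega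
      rcases hcase with rfl | rfl | rfl | rfl
      · have hj1 : j = 1 := by
          interval_cases j <;> simp_all
        subst hj1
        have : Nat.fib (6 + 1) = 13 := by decide
        omega
      · have hj1 : j = 1 := by
          interval_cases j <;> simp_all
        subst hj1
        have : Nat.fib (10 + 1) = 89 := by decide
        omega
      · have hj1 : 2 ^ j ≤ 4 := by
          interval_cases j <;> simp_all
        have : Nat.fib (12 + 1) = 233 := by decide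
        rw [this] at hF
        exact (Nat.mul_le_mul hj1 hF).trans (by norm_num)
      · have hj1 : j = 1 := by
          interval_cases j <;> simp_all
        subst hj1
        have : Nat.fib (14 + 1) = 610 := by decide
        omega
  · exact (Nat.mul_le_mul_right _ (Nat.le_of_dvd (by omega) hd)).trans (sixteen' h16)

theorem pow_aux {c a b k0 k : ℕ} (h0 : c * a ^ k0 ≤ b ^ k0) (hab : a ≤ b) (hk : k0 ≤ k) : c * a ^ k ≤ b ^ k := by
  obtain ⟨d, rfl⟩ : ∃ d, k = k0 + d := ⟨k - k0, by omega⟩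
  rw [pow_add, pow_add, ← mul_assoc]
  exact Nat.mul_le_mul h0 (Nat.pow_le_pow_left hab d)

/-- `w = 2, 4, 8` and `k ≥ 3` -/
theorem two_exc {k w j : ℕ} (hk : 3 ≤ k) (hko : Odd k) (hw : w = 2 ∨ w = 4 ∨ w = 8) (hd : 2 ^ j ∣ w) :
    2 ^ j * A k w ≤ 2 ^ (k * w - 1) := by
  have hk1 : 1 ≤ k := by omega
  have hA := A_le hk1 w
  have hF := card_partition_le_fib w
  have hle : 2 ^ j ≤ w := Nat.le_of_dvd (by omega) hd
  have hkk := k_le hk1
  have key : ∀ a : ℕ, Fintype.card (Nat.Partition w) ≤ a → w * a ^ k ≤ (2 ^ (w - 1)) ^ k →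
      2 ^ j * A k w ≤ 2 ^ (k * w - 1) := by
    intro a ha h
    calc 2 ^ j * A k w ≤ w * (k * Fintype.card (Nat.Partition w) ^ k) := Nat.mul_le_mul hle hA
      _ ≤ w * (2 ^ (k - 1) * a ^ k) :=
        Nat.mul_le_mul_left _ (Nat.mul_le_mul hkk (Nat.pow_le_pow_left ha k))
      _ = 2 ^ (k - 1) * (w * a ^ k) := by ring
      _ ≤ 2 ^ (k - 1) * (2 ^ (w - 1)) ^ k := Nat.mul_le_mul_left _ h
      _ = 2 ^ (k * w - 1) := by
        rw [← pow_mul, ← pow_add]
        congr 1
        rcases hw with rfl | rfl | rfl <;> omega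
  rcases hw with rfl | rfl | rfl
  · -- `w = 2`
    have hP : Fintype.card (Nat.Partition 2) = 2 := card_partition_small.2.1
    rcases Nat.lt_or_ge k 4 with h | h
    · have : k = 3 := by omega
      subst this
      have hA3 : A 3 2 = 12 := by
        unfold A
        rw [hP]
        decide
      rw [hA3]
      calc 2 ^ j * 12 ≤ 2 * 12 := Nat.mul_le_mul_right _ hle
        _ ≤ 2 ^ (3 * 2 - 1) := by norm_num
    · rw [hP] at hA
      obtain ⟨k, rfl⟩ : ∃ j, k = j + 4 := ⟨k - 4, by omega⟩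
      have h5 : k + 4 ≤ 2 ^ (k + 2) := by
        have := Nat.lt_two_pow_self (n := k)
        rw [pow_add]
        omega
      calc 2 ^ j * A (k + 4) 2 ≤ 2 * ((k + 4) * 2 ^ (k + 4)) := Nat.mul_le_mul hle hA
        _ ≤ 2 * (2 ^ (k + 2) * 2 ^ (k + 4)) := Nat.mul_le_mul_left _ (Nat.mul_le_mul_right _ h5)
        _ = 2 ^ ((k + 4) * 2 - 1) := by
          rw [← pow_add, ← pow_succ']
          congr 1
          omega
  · -- `w = 4`
    refine key 5 (hF.trans (by decide)) ?_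
    exact pow_aux (k0 := 3) (by norm_num) (by norm_num) hk
  · -- `w = 8`
    refine key 34 (hF.trans (by decide)) ?_
    exact pow_aux (k0 := 3) (by norm_num) (by norm_num) hk

theorem L2 {p k w j : ℕ} (hp : p.Prime) (hk : 1 ≤ k) (hkp : k.Coprime p) (hw : 1 ≤ w) (hd : p ^ j ∣ w)
    (hex : ¬ (p = 2 ∧ k = 1 ∧ (w = 2 ∨ w = 4 ∨ w = 8))) : p ^ j * A k w ≤ p ^ (k * w - 1) := by
  have hpj : 1 ≤ p ^ j := Nat.one_le_pow _ _ hp.pos
  rcases hp.eq_two_or_odd with rfl | hodd
  · by_cases hw2 : w = 2 ∨ w = 4 ∨ w = 8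
    · have hko : Odd k := Nat.coprime_two_right.1 hkp
      have hk3 : 3 ≤ k := by
        rcases hko with ⟨t, ht⟩
        by_contra hlt
        exact hex ⟨rfl, by omega, hw2⟩
      exact two_exc hk3 hko hw2 hd
    · push Not at hw2
      exact lemB le_rfl hpj hk hw (two_loc hw hd hw2)
  · have hp3 : 3 ≤ p := by
      have := hp.two_le
      have : p ≠ 2 := fun h => by rw [h] at hodd; norm_num at hodd
      omega
    rcases Nat.lt_or_ge w 3 with h3 | h3
    · have hj : j = 0 := by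
        by_contra hj
        have h1 : p ∣ w := (dvd_pow_self p hj).trans hd
        have := Nat.le_of_dvd (by omega) h1
        omega
      subst hj
      rw [pow_zero, one_mul]
      exact L1 (by omega) hk hw
    · exact lemB (by omega) hpj hk hw ((Nat.mul_le_mul_right _ (Nat.le_of_dvd (by omega) hd)).trans
        ((three' h3).trans (Nat.pow_le_pow_left hp3 _)))

/-- two exceptional indices -/
theorem L3 {w w' j : ℕ} (hw : w = 2 ∨ w = 4 ∨ w = 8) (hw' : w' = 2 ∨ w' = 4 ∨ w' = 8) (hd : 2 ^ j ∣ w)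
    (hd' : 2 ^ j ∣ w') : 2 ^ j * (A 1 w * A 1 w') ≤ 2 ^ (1 * w + 1 * w' - 1) := by
  have hA : ∀ w, A 1 w = Fintype.card (Nat.Partition w) := by
    intro w
    unfold A
    rw [Finset.sum_range_one, Nat.gcd_zero_left, pow_one]
  rw [hA, hA]
  have hle := Nat.le_of_dvd (by omega) hd
  have hle' := Nat.le_of_dvd (by omega) hd'
  have h2 := card_partition_small.2.1
  have h4 := card_partition_small.2.2.2.1
  have h8 := card_partition_small.2.2.2.2.2.2.2
  rcases hw with rfl | rfl | rfl <;> rcases hw' with rfl | rfl | rfl <;> simp only [h2, h4, h8] <;> omega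

theorem N3 (p : ℕ) (hp : p.Prime) {ι : Type*} [Fintype ι] [Nonempty ι] (k w : ι → ℕ) (hk : ∀ i, 1 ≤ k i)
    (hkp : ∀ i, (k i).Coprime p) (hw : ∀ i, 1 ≤ w i) (j : ℕ) (hg : ∀ i, p ^ j ∣ w i)
    (hex : ¬ (p = 2 ∧ ∃ i, (∀ i', i' = i) ∧ k i = 1 ∧ (w i = 2 ∨ w i = 4 ∨ w i = 8))) :
    p ^ j * ∏ i, ∑ c ∈ range (k i), Fintype.card (Nat.Partition (w i)) ^ Nat.gcd c (k i) ≤
      p ^ (∑ i, k i * w i - 1) := by
  classical
  show p ^ j * ∏ i, A (k i) (w i) ≤ _
  have hp2 := hp.two_le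
  have hrest : ∀ s : Finset ι, ∏ i ∈ s, A (k i) (w i) ≤ p ^ ∑ i ∈ s, k i * w i := by
    intro s
    rw [← Finset.prod_pow_eq_pow_sum]
    exact Finset.prod_le_prod' fun i _ => (L1 hp2 (hk i) (hw i)).trans
      (Nat.pow_le_pow_right (by omega) (Nat.sub_le _ _))
  have hpos : ∀ i, 1 ≤ k i * w i := fun i => Nat.mul_pos (hk i) (hw i)
  by_cases hcase : ∃ i, ¬ (p = 2 ∧ k i = 1 ∧ (w i = 2 ∨ w i = 4 ∨ w i = 8))
  · obtain ⟨i, hi⟩ := hcase
    have h1 := L2 hp (hk i) (hkp i) (hw i) (hg i) hi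
    have h2 := hrest (univ.erase i)
    rw [← Finset.mul_prod_erase univ _ (mem_univ i), ← Finset.add_sum_erase univ _ (mem_univ i), ← mul_assoc]
    refine (Nat.mul_le_mul h1 h2).trans (le_of_eq ?_)
    rw [← pow_add]
    congr 1
    have := hpos i
    omega
  · push Not at hcase
    obtain ⟨i0⟩ := (inferInstance : Nonempty ι)
    have hp2' : p = 2 := (hcase i0).1
    subst hp2'
    obtain ⟨i1, hi1⟩ : ∃ i1, i1 ≠ i0 := by
      by_contra hcon
      push Not at hcon
      exact hex ⟨rfl, i0, hcon, (hcase i0).2⟩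
    have h1 := L3 (hcase i0).2.2 (hcase i1).2.2 (hg i0) (hg i1)
    have hm : i1 ∈ (univ : Finset ι).erase i0 := Finset.mem_erase.2 ⟨hi1, mem_univ _⟩
    have h2 := hrest ((univ.erase i0).erase i1)
    rw [← Finset.mul_prod_erase univ _ (mem_univ i0), ← Finset.add_sum_erase univ _ (mem_univ i0),
      ← Finset.mul_prod_erase (univ.erase i0) _ hm, ← Finset.add_sum_erase (univ.erase i0) _ hm]
    rw [(hcase i0).2.1, (hcase i1).2.1]
    calc 2 ^ j * (A 1 (w i0) * (A 1 (w i1) * ∏ x ∈ (univ.erase i0).erase i1, A (k x) (w x)))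
        = 2 ^ j * (A 1 (w i0) * A 1 (w i1)) * ∏ x ∈ (univ.erase i0).erase i1, A (k x) (w x) := by ring
      _ ≤ 2 ^ (1 * w i0 + 1 * w i1 - 1) * 2 ^ ∑ x ∈ (univ.erase i0).erase i1, k x * w x := Nat.mul_le_mul h1 h2
      _ = 2 ^ (1 * w i0 + (1 * w i1 + ∑ x ∈ (univ.erase i0).erase i1, k x * w x) - 1) := by
        rw [← pow_add]
        congr 1
        have := hw i0
        omega

end Cfsg.Agent.H38.S4536
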